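import Cfsg.Agent.Fisch.R24.Au
import Cfsg.Agent.S5415

/-!
# Elements of order three in groups of Monster type
-/

set_option autoImplicit false

namespace CF.Fisch

open Cfsg Subgroup CF.Loc CF.LX CF.Even CF.Comp CF.Known.Mon CF.Leech
open scoped commutatorElement

universe u

variable {G : Type u} [Group G] [Finite G]

theorem conj_of_mod {Q : Subgroup G} (h2 : IsPGroup 2 Q) {y x : G} (o : orderOf y = 3) (hn : y ∈ 𝐍(Q))
    (e : x ^ 3 = 1) (m : y⁻¹ * x ∈ Q) : ∃ k, k * x * k⁻¹ = y := by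
  have := Fact.mk Nat.prime_three
  have hn' : zpowers y ≤ 𝐍(Q) := zpowers_le.2 hn
  have dj : ∀ x ∈ Q, x ∈ zpowers y → x = 1 := fun x a b =>
    have ⟨_, e⟩ := h2 ⟨x, a⟩
    eq_one_of_odd (o ▸ by decide) b (congrArg Subtype.val e)
  have c := card_sup_of_inf_eq_bot hn' (eq_bot_iff.2 fun x h => dj x h.1 h.2)
  have c' := card_inf_mul_relIndex (zpowers y) (Q ⊔ zpowers y)
  obtain ⟨n, hQ⟩ := IsPGroup.iff_card.1 h2
  rw [inf_of_le_left le_sup_right, c, hQ, Nat.card_zpowers, o, mul_comm (2 ^ n)] at c'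
  obtain ⟨k, hk, l⟩ := (isSyl_of_not_dvd_relIndex (p := 3) (isPGroup_zpowers (k := 1) (by simp [← o]))
    (le_sup_right (a := Q)) (by
      rw [Nat.eq_of_mul_eq_mul_left (by decide) c']
      exact fun d => absurd (Nat.prime_three.dvd_of_dvd_pow d) (by decide))).exists_cj_le
    (isPGroup_zpowers (k := 1) e) (zpowers_le.2
      ((mul_mem_cancel_left (inv_mem (mem_sup_right (mem_zpowers y)))).1 (mem_sup_left m)))
  obtain ⟨q, hq, _, hi, rfl⟩ := (mem_sup_of_le_normalizer hn').1 hk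
  obtain ⟨i, rfl⟩ := mem_powers_iff_mem_zpowers.2 hi
  refine ⟨_, mul_inv_eq_one.1 (dj _ ?_ (mul_mem (l (conj_mem_cj _ (mem_zpowers x))) (inv_mem (mem_zpowers y))))⟩
  convert mul_mem (mul_mem hq (conj_mem_of_mem_normalizer (pow_mem hn (i + 1)) m))
    (conj_mem_of_mem_normalizer hn (inv_mem hq)) using 1
  group

theorem cover24 {y n : G} (o : orderOf y = 3) [((zpowers y).subgroupOf 𝐂(zpowers y)).Normal]
    [((zpowers y).subgroupOf 𝐍(zpowers y)).Normal]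
    (e : Spor.IsoFi24' (𝐂(zpowers y) ⧸ (zpowers y).subgroupOf 𝐂(zpowers y)))
    (p : y ∈ ⁅𝐂(zpowers y), 𝐂(zpowers y)⁆) (hn : n * y * n⁻¹ = y⁻¹) : IsQuasisimple 𝐂(zpowers y) ∧
    ∃ (D : Set (𝐍(zpowers y) ⧸ (zpowers y).subgroupOf 𝐍(zpowers y))) (E : _) (f : _), F24.M24 D E f := by
  have := Fi24.simple
  have nc := not_comm_of_card (a := 2) (b := 627602854595330860646400) Fi24.card' (by decide) (by decide)
  have YC : zpowers y ≤ 𝐂(zpowers y) := le_centralizer _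
  have x := ext_of_quot YC e.some
  have q := qs_of_ext x nc (le_centralizer_iff.1 le_rfl) (x.perf nc (zpowers_le.2 p))
  have CN := centralizer_le_normalizer (zpowers y : Set G)
  set f := QuotientGroup.mk' ((zpowers y).subgroupOf 𝐍(zpowers y))
  have s : Function.Surjective f := QuotientGroup.mk'_surjective _
  have k : f.ker ≤ 𝐂(zpowers y).subgroupOf _ := fun w hw => YC (mk_eq_one_iff.1 hw)
  obtain ⟨-, ψ, h1, h2⟩ := (x.sub CN).img f fun w _ hw => mk_eq_one_iff.1 hw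
  rw [(Subgroup.map_eq_bot_iff _).2 (QuotientGroup.ker_mk' _).ge, bot_subgroupOf] at h2
  obtain ⟨D, E, g, M, -⟩ := model24 (L := (𝐂(zpowers y).subgroupOf _).map f) (by
      rw [index_map_eq _ s k]
      have d := Invol.relIndex_centralizer_dvd (zpowers y)
      have : IsCyclic (zpowers y) := inferInstance
      rw [IsCyclic.card_mulAut (zpowers y), Nat.card_zpowers, o] at d
      refine ((Nat.dvd_prime Nat.prime_two).1 d).resolve_left fun e => ?_
      have := relIndex_eq_one.1 e (mem_normalizer_of_cj_le (g := n) (by rw [cj_zpowers, hn, zpowers_inv])) y (mem_zpowers y)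
      rw [← this, mul_inv_cancel_right] at hn
      have := orderOf_dvd_of_pow_eq_one (x := y) (n := 2) (by rw [sq, mul_eq_one_iff_eq_inv, ← hn])
      rw [o] at this; omega)
    ⟨MulEquiv.ofBijective ψ ⟨(MonoidHom.ker_eq_bot_iff ψ).1 h2, h1⟩⟩ fun g hg => by
      obtain ⟨g, rfl⟩ := s g
      refine mem_map_of_mem f (centralizer_anti YC (cent_of_perfect (Sig.qs_perfect q.qs) fun w hw => q.cen.le ?_))
      refine mk_eq_one_iff.1 (show f (g * ⟨w, CN hw⟩ * g⁻¹ * (⟨w, CN hw⟩ : 𝐍(zpowers y))⁻¹) = 1 from ?_)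
      rw [map_mul, map_mul, map_mul, map_inv, map_inv, ← hg _ (mem_map_of_mem f hw)]
      group
  exact ⟨q.qs, D, E, g, M⟩

variable {Q : Subgroup G} {z y : G} {M : MT Q z}

theorem pow4 (M : MT Q z) {q : G} (hq : q ∈ Q) : q ^ 4 = 1 := by
  rw [show 4 = 2 * 2 from rfl, pow_mul, sq q]
  rcases M.lq.sq q hq with e | e <;> simp [e, sq, M.lq.zz]

theorem three_inv (r : M.Rp y (permHom (ev Leech.M.m C3A.w))) (o : orderOf y = 3) : ∃ n, n * y * n⁻¹ = y⁻¹ := by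
  obtain ⟨x, r'⟩ := M.exists_Rp' (permHom (ev Leech.M.m [4, 4, 4, 1, 4, 2, 2, 2, 4, 1, 1]))
  have e := Leech.M.eqM.conj (s := [4, 4, 4, 1, 4, 2, 2, 2, 4, 1, 1]) (a := C3A.w) (b := lapp C3A.w C3A.w)
    (by decide +kernel)
  have y3 : y ^ 3 = 1 := o ▸ pow_orderOf_eq_one y
  have r2 := r'.conj r
  rw [← map_inv, ← map_mul, ← map_mul, e, ev_lapp, map_mul] at r2
  have i : y * y = y⁻¹ := eq_inv_of_mul_eq_one_left (by simpa [pow_succ] using y3)
  obtain ⟨k, hk⟩ := conj_of_mod M.lq.isPGroup ((orderOf_inv y).trans o) (inv_mem (M.lq.nor r.mem))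
    (x := x * y * x⁻¹) (by rw [conj_pow, y3]; simp) ((i ▸ r.mul r).inv_mul_mem r2)
  exact ⟨k * x, by rw [← hk]; group⟩

theorem three_comm (r : M.Rp y (permHom (ev Leech.M.m C3A.w))) (o : orderOf y = 3) :
    y ∈ ⁅𝐂(zpowers y), 𝐂(zpowers y)⁆ := by
  have l : ∀ u, sameW Mat.a2 24 5 (lapp u C3A.w) (lapp C3A.w u) = true →
      ∃ x ∈ 𝐂(zpowers y), M.Rp x (permHom (ev Leech.M.m u)) := fun u h =>
    have ⟨x, a, b⟩ := r.lift (o ▸ by decide) (g := permHom (ev Leech.M.m u)) (mem_c1.2 (by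
      rw [← map_mul, ← map_mul, ← ev_lapp, ← ev_lapp, Leech.M.eqM _ _ h]))
    ⟨x, centralizer_zpowers y ▸ mem_c1.2 a, b⟩
  obtain ⟨u, hu, a⟩ := l [2, 3, 3, 2, 3, 3, 3, 1, 4, 1, 1, 3, 1] (by decide +kernel)
  obtain ⟨v, hv, b⟩ := l [3, 2, 2, 2, 2, 2, 3, 2, 4, 4, 2, 3, 3, 3, 3] (by decide +kernel)
  have c := (a.conj b).mul b.inv
  have e := Leech.M.eqM.conj (s := [2, 3, 3, 2, 3, 3, 3, 1, 4, 1, 1, 3, 1])
    (a := [3, 2, 2, 2, 2, 2, 3, 2, 4, 4, 2, 3, 3, 3, 3]) (b := lapp C3A.w [3, 2, 2, 2, 2, 2, 3, 2, 4, 4, 2, 3, 3, 3, 3])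
    (by decide +kernel)
  rw [← map_inv, ← map_mul, ← map_mul, e, ev_lapp, map_mul, mul_inv_cancel_right] at c
  have m := commutator_mem_commutator hu hv
  have k : Commute y ⁅u, v⁆ := commutator_le_self _ m y (mem_zpowers y)
  have p := pow4 M (r.inv_mul_mem c)
  rw [← commutatorElement_def, k.inv_left.mul_pow, inv_pow, inv_mul_eq_one, pow_succ, ← o, pow_orderOf_eq_one,
    one_mul] at p
  exact p ▸ pow_mem m 4

theorem s5461 (H : H30.{u}) (z : G) (Q : Subgroup 𝐂₁(z)) [Q.Normal] (hM : IsOfMonsterType z Q) (s : G)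
    (hsQ : ∃ hsc : s ∈ 𝐂₁(z), (⟨s, hsc⟩ : 𝐂₁(z)) ∈ Q) (hs : IsConj z s) (hs1 : s ≠ z) (Y : Subgroup G)
    (hY : Y ≤ centralizer {z, s}) (hY3 : Nat.card Y = 3) (hc : ∃ P : Sylow 3 (centralizer ({z, s} : Set G)),
      Y.subgroupOf (centralizer {z, s}) ≤ (center P).map (P : Subgroup (centralizer ({z, s} : Set G))).subtype)
    [(Y.subgroupOf 𝐂(Y)).Normal] [(Y.subgroupOf 𝐍(Y)).Normal] : IsQuasisimple 𝐂(Y) ∧
      Spor.IsoFi24' (𝐂(Y) ⧸ Y.subgroupOf 𝐂(Y)) ∧ ∃ (D : Set (𝐍(Y) ⧸ Y.subgroupOf 𝐍(Y))) (E : _) (f : _),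
        F24.M24 D E f := by
  obtain ⟨zb, R, _, hF⟩ := Cfsg.Agent.S5415.result z Q hM s hsQ hs hs1 Y hY hY3 hc
  have i := iso_of H hF
  obtain ⟨Q', M, a, b⟩ := setup hM hsQ hs hs1
  obtain ⟨y, o, rfl⟩ := Bt.eq_zpowers_of_card (by norm_num) hY3
  obtain ⟨M', b', r | r⟩ := MT.exists_three a b o (cent_pair z s ▸ hY (mem_zpowers y))
  · obtain ⟨n, hn⟩ := three_inv r o
    have := cover24 o i (three_comm r o) hn
    exact ⟨this.1, i, this.2⟩
  · exact absurd ((MT.central_iff3 C3B.main.1 a b' r o hY).1 hc) (by norm_num)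

omit [Finite G] in
theorem comm_cen {p u v : G} (a : Commute p u) (b : Commute p v) : ⁅p * u, v⁆ = ⁅u, v⁆ := by
  rw [commutatorElement_def, commutatorElement_def, mul_inv_rev, mul_assoc p u v,
    show p * (u * v) * (u⁻¹ * p⁻¹) = p * (u * v * u⁻¹) * p⁻¹ by group, ((a.mul_right b).mul_right a.inv_right).eq,
    mul_inv_cancel_right]

theorem three_ex (H : H30.{u}) (h : IsGroupOfMonsterType G) : ∃ X N : Subgroup G, Nat.card X = 3 ∧ N = 𝐍(X) ∧
    (∃ _ : (X.subgroupOf N).Normal, Nonempty (N ⧸ X.subgroupOf N ≃* Spor.Fi24)) ∧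
    ∀ L : Subgroup N, ¬ (X.subgroupOf N).IsComplement' L := by
  obtain ⟨z, Q, _, hM⟩ := h
  obtain ⟨g, hsQ, hs1⟩ := hM.1.2.2.2.2
  have hs : IsConj z (g * z * g⁻¹) := isConj_iff.2 ⟨g, rfl⟩
  obtain ⟨Q', M, a, b⟩ := setup hM hsQ hs hs1
  have D := C3A.main.1
  obtain ⟨x, r, c⟩ := M.exists_Rp_cent a (b ▸ red_ne_zero (ne_zero_of_nm (nm_e8 _) (by decide)) (nm_e8 _).le)
    (g := permHom (ev Leech.M.m C3A.w)) (b ▸ D.fix)
  have b3 : permHom (ev Leech.M.m C3A.w) ^ 3 = 1 := D.ord ▸ pow_orderOf_eq_one _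
  have r4 := r.pow 4
  rw [pow_succ _ 3, pow_succ (permHom _) 3, b3, one_mul, ← pow_succ] at r4
  have := Fact.mk Nat.prime_three
  have o : orderOf (x ^ 4) = 3 := orderOf_eq_prime
    (by rw [← pow_mul, mul_comm, pow_mul]; exact pow4 M ((r.pow 3).mem_Q_iff.2 (.inl b3))) fun e => by
      rcases r4.mem_Q_iff.1 (e ▸ one_mem _) with e | e
      · have := D.ord; rw [e, orderOf_one] at this; omega
      · have := r4.pow 2
        have k := orderOf_dvd_of_pow_eq_one (x := permHom (ev Leech.M.m C3A.w)) (n := 2) (by rw [e, sq, negCo_mul_self])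
        rw [D.ord] at k; omega
  have hY : zpowers (x ^ 4) ≤ centralizer {z, g * z * g⁻¹} :=
    zpowers_le.2 (pow_mem ((cent_pair z _).ge ⟨r.mem, mem_c1.2 c⟩) 4)
  generalize x ^ 4 = y at *
  have CN := centralizer_le_normalizer (zpowers y : Set G)
  have := normal_subgroupOf_of_le_normalizer CN
  have n : ((zpowers y).subgroupOf 𝐍(zpowers y)).Normal := normal_subgroupOf_of_le_normalizer le_rfl
  obtain ⟨k1, -, _, _, _, k2⟩ := s5461 H z Q hM _ hsQ hs hs1 _ hY ((Nat.card_zpowers y).trans o)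
    ((MT.central_iff3 D a b r4 o hY).2 (by norm_num))
  refine ⟨_, _, (Nat.card_zpowers y).trans o, rfl, ⟨n, ⟨k2.equivFi.choose⟩⟩, fun L hL => ?_⟩
  have m : ⁅𝐂(zpowers y), 𝐂(zpowers y)⁆ ≤ L.map (Subgroup.subtype _) := commutator_le.2 fun u hu v hv => by
    obtain ⟨⟨u1, u2⟩, e1⟩ := (hL.existsUnique ⟨u, CN hu⟩).exists
    obtain ⟨⟨v1, v2⟩, e2⟩ := (hL.existsUnique ⟨v, CN hv⟩).exists
    refine ⟨⁅u2.1, v2.1⁆, mul_mem (mul_mem (mul_mem u2.2 v2.2) (inv_mem u2.2)) (inv_mem v2.2), ?_⟩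
    have e3 : u2.1.1 = u1.1.1⁻¹ * u := eq_inv_mul_of_mul_eq (congrArg Subtype.val e1)
    have e4 : v2.1.1 = v1.1.1⁻¹ * v := eq_inv_mul_of_mul_eq (congrArg Subtype.val e2)
    have c1 : Commute u1.1.1 v := hv _ u1.2
    have c2 : Commute v1.1.1 u := hu _ v1.2
    have c3 : Commute u1.1.1 u := hu _ u1.2
    have c4 : Commute v1.1.1 v := hv _ v1.2
    have c5 : Commute u1.1.1 v1.1.1 := le_centralizer (zpowers y) v1.2 _ u1.2
    rw [map_commutatorElement, coe_subtype, e3, e4]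
    generalize u1.1.1 = p at *
    generalize v1.1.1 = q at *
    rw [comm_cen c3.inv_left (c5.inv_left.inv_right.mul_right c1.inv_left), ← commutatorElement_inv,
      comm_cen c4.inv_left c2.inv_left, commutatorElement_inv]
  obtain ⟨w, hw, e⟩ := m (three_comm r4 o)
  have := hL.disjoint.le_bot (⟨(mem_zpowers_iff.2 ⟨1, (zpow_one y).trans e.symm⟩ : w.1 ∈ zpowers y), hw⟩ : w ∈ _ ⊓ L)
  rw [mem_bot.1 this] at e
  rw [← e, map_one, orderOf_one] at o
  omega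

end CF.Fisch
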