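import Cfsg.Agent.Fisch.R24.Nd
import Cfsg.Agent.Fisch.R24.Au
import Cfsg.Agent.Known.Mon.Odd
import Cfsg.Agent.Loc.Iso

/-! Recognition of the two largest Fischer groups. -/

set_option autoImplicit false
set_option maxRecDepth 1000000
set_option linter.unusedSectionVars false

namespace CF.Fisch.N34
open Cfsg Subgroup CF.Loc CF.Even CF.LX CF.Comp CF.Dce CF.J4 CF.Geom CF.Recog CF.F24 CF.MonU
open scoped Pointwise commutatorElement

local notation "ω" => φF 4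
local notation "τ" => φN 5

universe u

theorem rel_L0 : L0.relIndex H0 = 2 := by
  have := card_inf_mul_relIndex L0 H0
  rw [inf_of_le_left L0_le, card_L0, card_H0] at this
  omega

theorem H0_conj {g x : O} (hg : g ∈ 𝐍(L0)) (hx : x ∈ H0) : g * x * g⁻¹ ∈ H0 := by
  simpa using mul_mem (L0_le (com_N hg (H0_norm hx))) hx

variable {G : Type u} [Group G] [Finite G] {E P : Subgroup G} {z t : G} {π π' : G → ℕ} (h : FN E z π)
include h

namespace FN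

theorem key (p : Pair E P z t) :
    ∃ o ∈ L0, o • dec (π t) = dec 1 ∧ cj[o] (h.hom.im (P ⊓ 𝐂₁(z)) inf_le_right) = E5 := by
  have F := h.toFr
  have n0 := pi_ne F p.tQ p.r.z_ne p.ne
  refine keyN (fun o ho => ?_) (F.lt' p.tQ) n0 ((F.sq_iff p.tQ).1 p.r.zz) (fun o ho => ?_) (fun o ho => ?_) ?_
    fun o ho => ?_
  · obtain ⟨b, hb, rfl⟩ := h.hom.mem_im.1 ho
    exact h.hi b hb.2
  · obtain ⟨b, hb, rfl⟩ := h.hom.mem_im.1 ho
    rw [ph_smul F hb.2 p.tQ, mem_c1.1 (p.r.le_c1 hb.1), mul_inv_cancel_right]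
  · obtain ⟨b, hb, rfl⟩ := h.hom.mem_im.1 ho
    rw [← ph_hom F _ hb.2 _ hb.2]
    rcases p.r.sq b hb.1 with e | e <;> rw [e]
    exacts [h.hom.one, ph_E F p.tQ]
  · have c1 := card_im F (inf_le_right : P ⊓ 𝐂₁(z) ≤ _)
    have c2 := p.r.two_mul_card_c1 p.zP F.z_ne p.ne.symm
    have c3 := F.card_mul_card (W := E ⊓ P) ⟨F.mem, p.zP⟩ inf_le_left
    have c4 := card_le_of_le (le_inf inf_le_left (EA.le_cent fun _ => p.E_sq) : E ⊓ P ≤ E ⊓ 𝐂(E ⊓ P))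
    have c5 := card_le_of_le (le_inf inf_le_right (inf_le_left.trans inf_le_left) : P ⊓ 𝐂₁(z) ⊓ E ≤ E ⊓ P)
    rw [p.card_eq, F.card] at c2
    rw [F.card] at c3
    have c6 : Nat.card ↥(E ⊓ P) ≤ 128 := by nlinarith
    nlinarith
  · obtain ⟨k, hk, rfl⟩ := h.lo o ho.1
    obtain ⟨k', hk', e1, e2⟩ := lift_conj F hk p.tQ p.tQ n0 ho.2
    have := p.C_norm_B (show k' ∈ 𝐂(V4 z t) from cent_V4 z t ▸ ⟨hk', mem_c1.2 (conj_eq_iff.1 e2)⟩)
    refine mem_normalizer_fintype fun o ho => ?_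
    obtain ⟨b, hb, rfl⟩ := h.hom.mem_im.1 ho
    exact h.hom.mem_im.2 ⟨_, norm_mem' this hb, e1 ▸ h.hom.conj hk' hb.2⟩

theorem H0_le (p : Pair E P z t) : H0 ≤ h.hom.hom.range := by
  obtain ⟨o, ho, -, e⟩ := h.key p
  have l : L0 ≤ h.hom.hom.range := fun o ho => have ⟨g, a, b⟩ := h.lo o ho; ⟨⟨g, a⟩, b⟩
  obtain ⟨g, a, b⟩ := h.hom.mem_im.1 (Loc.mem_cj.1 (e.ge R_E5))
  exact H0_eq.le.trans (sup_le l (zpowers_le.2 ((mul_mem_cancel_left (inv_mem (l ho))).1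
    ((mul_mem_cancel_right (l ho)).1 ⟨⟨g, a.2⟩, b⟩))))

theorem pairH0 (h' : FN P t π') (p : Pair E P z t) {v : G} (hz : v ∈ 𝐂₁(z)) (ht : v ∈ 𝐂₁(t))
    (k : Ph E π v ∈ H0) : Ph P π' v ∈ H0 := by
  obtain ⟨o, ho, e1, e2⟩ := h.key p
  obtain ⟨o', ho', -, e3⟩ := h'.key p.symm
  have l : ∀ x ∈ X0, ∃ y ∈ 𝐂₁(z) ⊓ 𝐂₁(t), Ph E π y = o⁻¹ * x * o := fun x hx => by
    obtain ⟨y, e⟩ := h.H0_le p (mul_mem (mul_mem (inv_mem (L0_le ho)) hx.1) (L0_le ho))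
    obtain ⟨k, a, b, c⟩ := lift_conj h.toFr y.2 p.tQ p.tQ (pi_ne h.toFr p.tQ p.r.z_ne p.ne) (by
      rw [show Ph E π y = _ from e, mul_smul, mul_smul, e1, show x • dec 1 = dec 1 from hx.2, ← e1, inv_smul_smul])
    exact ⟨k, ⟨a, mem_c1.2 (conj_eq_iff.1 c)⟩, b.trans e⟩
  obtain ⟨y, a, b⟩ := h.hom.mem_im.1 (Loc.mem_cj.1 (X0_le (J := cj[o] (h.hom.im (𝐂₁(z) ⊓ h'.hom.pre H0) inf_le_left))
    (e2 ▸ cj_mono o fun _ m => by
      obtain ⟨b, hb, rfl⟩ := h.hom.mem_im.1 m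
      exact h.hom.mem_im.2 ⟨b, ⟨hb.2, h'.hom.mem_pre.2 ⟨h'.le_c1 hb.1, ph_E h'.toFr hb.1 ▸ one_mem _⟩⟩, rfl⟩)
    (fun x hx y hy => by
      obtain ⟨a, ha, ea⟩ := l x hx
      obtain ⟨b, hb, eb⟩ := l y hy
      have m := mul_mem (mul_mem ha hb) (inv_mem ha)
      refine Loc.mem_cj.2 (h.hom.mem_im.2 ⟨a * b * a⁻¹ * b⁻¹, ⟨(mul_mem m (inv_mem hb)).1, h'.hom.mem_pre.2
        ⟨(mul_mem m (inv_mem hb)).2, ?_⟩⟩, ?_⟩)
      · rw [h'.hom _ m.2 _ (inv_mem hb).2, h'.hom.conj ha.2 hb.2, h'.hom.inv hb.2]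
        exact L0_le (com_N (h'.hi a ha.2) (h'.hi b hb.2))
      · rw [h.hom _ m.1 _ (inv_mem hb).1, h.hom.conj ha.1 hb.1, h.hom.inv hb.1, ea, eb, commutatorElement_def]
        group)
    (show o * Ph E π v * o⁻¹ ∈ X0 from ⟨H0_conj (le_normalizer ho) k, by
      change _ • dec 1 = dec 1
      rw [← e1, mul_smul, inv_smul_smul, mul_smul, ph_smul h.toFr hz p.tQ, conj_eq_iff.2 (mem_c1.1 ht)]⟩)))
  obtain ⟨c, d⟩ := h'.hom.mem_pre.1 a.2
  have m := mul_mem (inv_mem c) ht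
  have : _ ∈ H0 := (E5_le (e3.le (conj_mem_cj o' (h'.hom.mem_im.2
    ⟨_, ⟨ph_div h.toFr a.1 hz (by rw [b]; group), m⟩, rfl⟩)))).1
  rwa [mul_mem_cancel_right (inv_mem (L0_le ho')), mul_mem_cancel_left (L0_le ho'), h'.hom _ (inv_mem c) _ ht,
    h'.hom.inv c, mul_mem_cancel_left (inv_mem d)] at this

theorem exists_u (k : τ ∈ h.hom.hom.range) : ∃ v ∈ 𝐂₁(z), v * v = 1 ∧ Ph E π v = τ := by
  obtain ⟨⟨x, hx⟩, ex⟩ := k
  replace ex : Ph E π x = τ := ex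
  obtain ⟨y, hy, e⟩ := h.lo _ P_mem
  have h1 := (ph_ker h.toFr (pow_mem hy 3)).1 (by rw [h.hom.pow hy, e, P3])
  have hp := pow_mem hy 4
  have ep : Ph E π (y ^ 4) = ω := by rw [h.hom.pow hy, e, pow_succ, P3, one_mul]
  have p3 : (y ^ 4) ^ 3 = 1 := by
    rw [← pow_mul, show 4 * 3 = 3 * 2 * 2 from rfl, pow_mul, pow_mul, pow_two (y ^ 3), h.sq' _ h1, pow_two, zp_self h.zz]
  generalize y ^ 4 = p at *
  have m := mul_mem (mul_mem hp hx) (inv_mem hp)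
  obtain ⟨q, hq, c⟩ := Known.Mon.exists_fix (Odd.of_dvd_nat (by decide) (orderOf_dvd_of_pow_eq_one p3)) h.isPGroup
    (h.nor hp) (g := x) ((ph_ker h.toFr (mul_mem m (inv_mem hx))).1 (by
      rw [h.hom _ m _ (inv_mem hx), h.hom.conj hp hx, h.hom.inv hx, ep, ex, ← τω.eq]; group))
  have hd := mul_mem (h.le_c1 hq) hx
  have ed : Ph E π (q * x) = τ := by rw [h.hom _ (h.le_c1 hq) _ hx, ph_E h.toFr hq, one_mul, ex]
  generalize q * x = d at *
  have s := (ph_ker h.toFr (mul_mem hd hd)).1 (by rw [h.hom _ hd _ hd, ed, ττ])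
  have f := (h.ν_fix hp s).2 (.inl (conj_eq_iff.2 ((show Commute d p from c).symm.mul_right c.symm)))
  have := ωω (dec (π (d * d)))
  rw [ep] at f
  rw [f, f, aa, ← dec_zero, ← h.toCo.one, h.ν_eq s (one_mem _), mul_one] at this
  refine this.elim (fun e => ⟨d, hd, e, ed⟩) fun e => by_contra fun n => ?_
  have i : ∀ w ∈ E, τ • dec (π w) = dec (π w) → d * w * d⁻¹ = w⁻¹ := fun w hw k => by
    have m := norm_mem' (h.nor hd) hw
    have := (h.ν_eq m (inv_mem hw)).1 (by rw [← ph_smul h.toFr hd hw, ed, k, h.toCo.inv hw])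
    refine this.resolve_right fun k => n ⟨w * d, mul_mem (h.le_c1 hw) hd, ?_, by
      rw [h.hom _ (h.le_c1 hw) _ hd, ph_E h.toFr hw, one_mul, ed]⟩
    rw [show w * d * (w * d) = w * (d * w * d⁻¹) * (d * d) by group, k, e, ← mul_assoc, h.zc hw, mul_inv_cancel_right,
      h.zz]
  obtain ⟨a, ha, ea⟩ := h.surj 4 (by norm_num)
  obtain ⟨b, hb, eb⟩ := h.surj 256 (by norm_num)
  have fa : τ • dec (π a) = dec (π a) := ea ▸ (fx_iff ri_τ chkR (by norm_num)).2 (by decide +kernel)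
  have fb : τ • dec (π b) = dec (π b) := eb ▸ (fx_iff ri_τ chkR (by norm_num)).2 (by decide +kernel)
  have := i _ (mul_mem ha hb) (by rw [h.ν_mul ha hb, smul_add, fa, fb])
  rw [conj_mul_conj, i a ha fa, i b hb fb, ← mul_inv_rev, inv_inj, h.comm_iff hb ha, ea, eb] at this
  exact absurd this (by decide +kernel)

theorem odd_index : ¬ 2 ∣ (𝐂₁(z)).index := by
  have := Fact.mk Nat.prime_two
  obtain ⟨T, hT⟩ := exists_isSyl 2 𝐂₁(z)
  exact relIndex_top_right 𝐂₁(z) ▸ (h.isSyl_top hT).not_dvd_relIndex_of_le hT.le le_top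

theorem rel_H0 (k : τ ∈ h.hom.hom.range) : H0.relIndex h.hom.hom.range = 2 :=
  relIndex_eq_two_iff_exists_notMem_and.2 ⟨τ, k, τ_not, fun _ ⟨g, e⟩ => (N_two (e ▸ h.hi g g.2)).symm⟩

theorem pre_rel (T : Subgroup O) : (h.hom.pre T).relIndex 𝐂₁(z) = T.relIndex h.hom.hom.range := by
  rw [relIndex, HomOn.pre, subgroupOf, comap_map_eq_self_of_injective (subtype_injective _), index_comap]

theorem index_two (k : τ ∈ h.hom.hom.range) : ∃ L : Subgroup G, L.index = 2 := by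
  by_contra! n
  obtain ⟨v, hv, vv, e⟩ := h.exists_u k
  obtain ⟨g, a, b⟩ := extremal_transfer h.odd_index (map_subtype_le _) ((h.pre_rel H0).trans (h.rel_H0 k))
    ((pow_two v).trans vv) (Invol.mem_commutator_of_no_index_two n (by
      obtain ⟨k, -, e⟩ := (Nat.dvd_prime_pow Nat.prime_two).1 (orderOf_dvd_of_pow_eq_one ((pow_two v).trans vv) :
        orderOf v ∣ 2 ^ 1)
      exact ⟨k, e⟩)) (T := E ⊓ 𝐂₁(v)) h.isPGroup.to_inf_left inf_le_right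
  obtain ⟨a1, a2⟩ := h.hom.mem_pre.1 a
  have h' := h.cj g⁻¹
  have c := h.card_fx hv
  have m : g⁻¹ * z * g⁻¹⁻¹ ∈ 𝐂₁(z) := b (conj_mem_cj _ ⟨h.mem, mem_c1.2 (mem_c1.1 hv).symm⟩)
  rw [e, card_C, ← card_cj g⁻¹] at c
  by_cases k1 : g⁻¹ * z * g⁻¹⁻¹ = z
  · have hg := inv_mem (mem_c1.2 (conj_eq_iff.1 k1))
    rw [inv_inv] at hg
    have := H0_conj (h.hi g hg) a2
    rw [h.hom.conj' hg hv, e] at this
    exact τ_not (by simpa [mul_assoc] using this)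
  by_cases k2 : g⁻¹ * z * g⁻¹⁻¹ ∈ E
  · have := h.pairH0 h' (h.pair (by rw [h.card]; norm_num) k1 k2) a1 (c1_cj.2 (by simpa [mul_assoc] using hv)) a2
    rw [ph_cj] at this
    exact τ_not (by simpa [mul_assoc, e] using this)
  · have p : Np E (cj[g⁻¹] E) z _ := ⟨h.toLQ, h'.toLQ, m, k2, fun k => k2 (by
      have := h.mem_cj (by rw [h.card]; norm_num) (g := g) (fun k => k1 (by
        conv_lhs => rw [← k]
        group)) (by simpa using Loc.mem_cj.1 k)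
      simpa using Loc.mem_cj.1 this)⟩
    exact (p.symm.no_big h' h).not_ge (c.trans (card_le_of_le (le_inf (cj_mono _ inf_le_left) b)))

theorem pre_le {L : Subgroup G} (i : L.index = 2) : h.hom.pre L0 ≤ L := fun x hx => by
  have c : ∀ a b, a * b * a⁻¹ * b⁻¹ ∈ L := fun a b =>
    Comp.commutator_le_of_index_two i (commutator_mem_commutator (mem_top a) (mem_top b))
  obtain ⟨y, hy, e⟩ := h.lo _ P_mem
  have zL : z ∈ L := by
    obtain ⟨a, ha, h1, h2⟩ := h.exists_not_mem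
    obtain ⟨q, -, e⟩ := h.exists_conj' ha h1 h2
    simpa [e] using c q a
  have l : E ≤ L := fun d hd => by
    obtain ⟨r, -, k | k⟩ := h.km hy hd ⟨ω • dec (π d), by rw [e, ωω, add_comm (dec _), ← add_assoc, aa, zero_add]⟩
    exacts [k ▸ c r y, k ▸ mul_mem zL (c r y)]
  obtain ⟨h1, h2⟩ := h.hom.mem_pre.1 hx
  obtain ⟨y, a, b⟩ := h.hom.mem_im.1 ((commutator_le.2 fun a ha b hb => by
    obtain ⟨a, ha', rfl⟩ := h.lo a ha
    obtain ⟨b, hb', rfl⟩ := h.lo b hb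
    have m := mul_mem (mul_mem ha' hb') (inv_mem ha')
    exact h.hom.mem_im.2 ⟨_, mem_inf.2 ⟨mul_mem m (inv_mem hb'), c a b⟩, by
      rw [h.hom _ m _ (inv_mem hb'), h.hom.conj ha' hb', h.hom.inv hb', commutatorElement_def]⟩ :
    ⁅L0, L0⁆ ≤ h.hom.im (𝐂₁(z) ⊓ L) inf_le_left) (perf_L0 h2))
  exact (L.mul_mem_cancel_left (L.inv_mem a.2)).1 (l (ph_div h.toFr a.1 h1 b))

theorem E_pre : E ≤ h.hom.pre L0 := fun _ k => h.hom.mem_pre.2 ⟨h.le_c1 k, ph_E h.toFr k ▸ one_mem _⟩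

theorem lft (H : H30.{u}) (hF : (generalizedFittingSubgroup 𝐂₁(z)).map (Subgroup.subtype _) = E) {L : Subgroup G}
    [L.Normal] (k : h.hom.pre L0 ≤ L) (i : (h.hom.pre L0).relIndex (𝐂₁(z) ⊓ L) = 2) {g : G} (hg : g ∈ L)
    (hin : g * z * g⁻¹ ∈ E) (hne : g * z * g⁻¹ ≠ z) : Spor.IsoFi24' L := by
  have EL := h.E_pre.trans k
  let z0 : L := ⟨z, EL h.mem⟩
  let j : 𝐂₁(z0) →* G := L.subtype.comp (𝐂₁(z0)).subtype
  have inj : Function.Injective j := L.subtype_injective.comp (subtype_injective _)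
  have mj : ∀ x, j x ∈ 𝐂₁(z) := fun x => mem_c1.2 (congrArg Subtype.val (mem_c1.1 x.2))
  have rj : j.range = 𝐂₁(z) ⊓ L := le_antisymm (by rintro _ ⟨x, rfl⟩; exact ⟨mj x, x.1.2⟩) fun x hx =>
    ⟨⟨⟨x, hx.2⟩, mem_c1.2 (Subtype.ext (mem_c1.1 hx.1))⟩, rfl⟩
  let ι := j.codRestrict _ mj
  let Φ := h.hom.hom.comp ι
  have kΦ : Φ.ker = E.comap j := Subgroup.ext fun x => ph_ker h.toFr (mj x)
  have rΦ : L0 ≤ Φ.range := fun o ho => by
    obtain ⟨x, a, b⟩ := h.lo o ho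
    obtain ⟨y, rfl⟩ := rj.ge ⟨a, k (h.hom.mem_pre.2 ⟨a, b ▸ ho⟩)⟩
    exact ⟨y, b⟩
  have mE : (E.comap j).map j = E := map_comap_eq_self (rj ▸ le_inf h.le_c1 EL)
  have q := (E.comap j).equivMapOfInjective j inj
  rw [mE] at q
  haveI : (E.comap j).Normal := kΦ ▸ inferInstance
  have := Fact.mk Nat.prime_three
  obtain ⟨K, _, _, hK⟩ := exF 3 2 (by decide)
  obtain ⟨φ, s, kφ⟩ := isoL (F := K) hK
  have nN : ((zpowers ω).comap Φ).Normal := ⟨fun x hx y => mem_comap.2 (by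
    rw [map_mul, map_mul, map_inv]
    exact norm_mem' (inv_inv (Φ y) ▸ inv_mem (mem_norm_zp (nP (inv_mem (h.hi _ (mj y)))))) hx)⟩
  have nM : (L0.comap Φ).Normal := ⟨fun x hx y => mem_comap.2 (by
    rw [map_mul, map_mul, map_inv]
    exact norm_mem' (h.hi _ (mj y)) hx)⟩
  refine iso_of H (z := z0) (Q := E.comap j) ⟨⟨(orderOf_coe z0).symm.trans h.ord, ?_,
    isExtraspecial_of_equiv h.isExtraspecial q.symm, (Nat.card_congr q.toEquiv).trans h.card, ⟨g, hg⟩,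
    ⟨mem_c1.2 (Subtype.ext (h.zc hin)), hin⟩, fun e => hne (congrArg Subtype.val e)⟩, _, _, nN, nM,
    kΦ ▸ ker_le_comap _ _, comap_mono (zpowers_le.2 P_mem), ?_, ⟨K, ‹_›, ‹_›, hK, ⟨?_⟩⟩, ?_⟩
  · have n : ι.range.Normal := by
      rw [show ι.range = L.subgroupOf _ from Subgroup.ext fun x => ⟨fun ⟨y, e⟩ => e ▸ y.1.2, fun m =>
        have ⟨y, e⟩ := rj.ge ⟨x.2, m⟩; ⟨y, Subtype.ext e⟩⟩]
      infer_instance
    have e := Sig.map_fstar_subtype_of_subnormal n.isSubnormal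
    rw [← Sig.map_fstar_equiv (MonoidHom.ofInjective (f := ι) fun a b e => inj (Subtype.mk.inj e)), map_map] at e
    replace e := congrArg (map (𝐂₁(z)).subtype) e
    rw [map_map, map_inf _ _ _ (subtype_injective _), hF, inf_eq_left.2 (by
      rw [← MonoidHom.range_comp]; exact rj ▸ le_inf h.le_c1 EL)] at e
    rw [← e]
    exact (comap_map_eq_self_of_injective inj _).symm
  · rw [← card_inf_mul_relIndex (E.comap j), ← kΦ, inf_eq_left.2 (ker_le_comap _ _), relIndex_ker,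
      map_comap_eq_self ((zpowers_le.2 P_mem).trans rΦ), Nat.card_zpowers, orderOf_eq_prime P3 P1, mul_comm]
  · exact (QuotientGroup.quotientMulEquivOfEq (Subgroup.ext fun x => (kφ (Φ.subgroupComap L0 x)).symm)).trans
      (QuotientGroup.quotientKerEquivOfSurjective (φ.comp (Φ.subgroupComap L0)) (s.comp fun o =>
        have ⟨x, e⟩ := rΦ o.2; ⟨⟨x, mem_comap.2 (e ▸ o.2)⟩, Subtype.ext e⟩))
  · rw [← rj, ← index_comap] at i
    exact (congrArg index (Subgroup.ext fun x => ((h.hom.mem_pre (T := L0)).trans (and_iff_right (mj x))).symm)).trans i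

theorem main (H : H30.{u}) (hF : (generalizedFittingSubgroup 𝐂₁(z)).map (Subgroup.subtype _) = E) :
    𝐂₁(z) ⊔ oddCore G = ⊤ ∨ ((L0.comap h.hom.hom).index = 2 ∧ Spor.IsoFi24' G) ∨
      ((L0.comap h.hom.hom).index = 4 ∧ Nonempty (G ≃* Spor.Fi24)) := by
  refine h.nw.imp_right fun ⟨g, hin, hne⟩ => ?_
  have l := h.H0_le (h.pair (by rw [h.card]; norm_num) hne hin)
  rw [index_comap]
  by_cases k : τ ∈ h.hom.hom.range
  · have i4 := relIndex_mul_relIndex _ _ _ L0_le l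
    rw [rel_L0, h.rel_H0 k] at i4
    obtain ⟨L, i⟩ := h.index_two k
    have := normal_of_index_eq_two i
    have n : ¬ 𝐂₁(z) ≤ L := fun e => h.odd_index (i ▸ index_dvd_of_le e)
    have a := relIndex_mul_relIndex _ _ _ (le_inf (map_subtype_le _) (h.pre_le i)) (inf_le_left (a := 𝐂₁(z)))
    rw [inf_relIndex_left, ((Nat.dvd_prime Nat.prime_two).1 (i ▸ relIndex_dvd_index_of_normal L _)).resolve_left
      (mt relIndex_eq_one.1 n)] at a
    obtain ⟨x, hx, m⟩ := SetLike.not_le_iff_exists.1 n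
    obtain ⟨g', a1, a2⟩ : ∃ g' ∈ L, g' * z * g'⁻¹ = g * z * g⁻¹ := by
      by_cases e : g ∈ L
      exacts [⟨g, e, rfl⟩, ⟨g * x, (mul_mem_iff_of_index_two i).2 (iff_of_false e m), by
        rw [mul_assoc g, mem_c1.1 hx]; group⟩]
    obtain ⟨_, _, _, M, -⟩ := model24 i (h.lft H hF (h.pre_le i) (by
      have := h.pre_rel L0
      change (h.hom.pre L0).relIndex _ * 2 = (h.hom.pre L0).relIndex _ at a
      omega) a1 (a2 ▸ hin) (a2 ▸ hne)) (cent_le_of_fstar (h.pre_le i (h.E_pre h.mem)) (hF ▸ h.E_pre.trans (h.pre_le i)))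
    exact .inr ⟨i4.symm, ⟨M.equivFi.choose⟩⟩
  · have e : h.hom.hom.range = H0 := le_antisymm (fun o ho => have ⟨g, e⟩ := ho
      (N_two (e ▸ h.hi g g.2)).resolve_right fun m => k ((mul_mem_cancel_left ho).1 (l m))) l
    obtain ⟨φ⟩ := h.lft H hF le_top (by rw [inf_top_eq, h.pre_rel, e, rel_L0]) (mem_top g) hin hne
    exact .inl ⟨e ▸ rel_L0, ⟨topEquiv.symm.trans φ⟩⟩

end FN

end CF.Fisch.N34
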